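import Groth.Agent.RelQuot.K703.Chart

/-!
# Base change of universal families of length `d` quotients

`isUniversal_baseChange`: if `(H, u)` represents the functor of length `d` quotients of `E` along `f : X ⟶ S`,
then `H ×_S S'` represents the functor for the base change `f' : X' ⟶ S'` and the pull-back of `E`.
-/

set_option autoImplicit false
set_option backward.isDefEq.respectTransparency false
universe u

open CategoryTheory CategoryTheory.Limits AlgebraicGeometry TopologicalSpace Opposite

namespace K703.BC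

open Groth.Agent.Fga.SubobjSec Groth.Agent.Fga.SubPull Groth.Agent.Fga.QuotPull
open Groth.Agent.Picfga.HilbPull Groth.Agent.Picfga.HilbZar K703.SqIso K703.SuppSub K703.Chart

variable {X S X' S' : Scheme.{u}} {f : X ⟶ S} {f' : X' ⟶ S'} {g' : X' ⟶ X} {s : S' ⟶ S}
  (sq : IsPullback g' f' f s)

/-- The comparison `X'_T ⟶ X_T`. -/
noncomputable def sig (T : Over S') : PicF.XT f' T ⟶ PicF.XT f ((Over.map s).obj T) :=
  pullback.lift (pullback.fst f' T.hom ≫ g') (pullback.snd f' T.hom) (by
    rw [Category.assoc, sq.w, pullback.condition_assoc]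
    rfl)

lemma sig_fst (T : Over S') :
    sig sq T ≫ pullback.fst f ((Over.map s).obj T).hom = pullback.fst f' T.hom ≫ g' :=
  pullback.lift_fst _ _ _

lemma sig_snd (T : Over S') :
    sig sq T ≫ PicF.XTproj f ((Over.map s).obj T) = PicF.XTproj f' T :=
  pullback.lift_snd _ _ _

instance isIso_sig (T : Over S') : IsIso (sig sq T) := by
  have h1 : IsPullback (pullback.fst f' T.hom ≫ g') (pullback.snd f' T.hom) f (T.hom ≫ s) :=
    (IsPullback.of_hasPullback f' T.hom).paste_horiz sq
  have h2 : IsPullback (pullback.fst f ((Over.map s).obj T).hom) (pullback.snd f ((Over.map s).obj T).hom)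
      f (T.hom ≫ s) := IsPullback.of_hasPullback f ((Over.map s).obj T).hom
  have h3 : sig sq T = (h1.isoIsPullback _ _ h2).hom := by
    apply pullback.hom_ext
    · exact (sig_fst sq T).trans (h1.isoIsPullback_hom_fst _ _ h2).symm
    · exact (sig_snd sq T).trans (h1.isoIsPullback_hom_snd _ _ h2).symm
  rw [h3]
  infer_instance

lemma XTmap_sig {T T' : Over S'} (g : T' ⟶ T) :
    PicF.XTmap f' g ≫ sig sq T = sig sq T' ≫ PicF.XTmap f ((Over.map s).map g) := by
  apply pullback.hom_ext
  · rw [Category.assoc, Category.assoc, sig_fst, XTmap_fst, sig_fst, XTmap_fst_assoc]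
  · have h1 := sig_snd sq T
    have h2 := sig_snd sq T'
    have h3 := XTmap_snd f' g
    have h4 := XTmap_snd f ((Over.map s).map g)
    change _ ≫ PicF.XTproj f _ = _ ≫ PicF.XTproj f _
    rw [Category.assoc, Category.assoc, h1, h3, h4, reassoc_of% h2]
    rfl

variable {E : X.Modules} {E' : X'.Modules} (e : (Scheme.Modules.pullback g').obj E ≅ E')

/-- The pull-back of `E_T` is `E'_T`. -/
noncomputable def chi (T : Over S') :
    (Scheme.Modules.pullback (sig sq T)).obj (FGA.ET f E ((Over.map s).obj T)) ≅ FGA.ET f' E' T :=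
  sqIso (sig sq T) (Limits.pullback.fst f ((Over.map s).obj T).hom) (Limits.pullback.fst f' T.hom) g'
    (sig_fst sq T) e

/-- The dictionary on submodules. -/
noncomputable def toX' {T : Over S'} (K : Subobject (FGA.ET f E ((Over.map s).obj T))) :
    Subobject (FGA.ET f' E' T) :=
  subPull (sig sq T) (chi sq e T) K

lemma toX'_quotPull {T T' : Over S'} (g : T' ⟶ T) (K : Subobject (FGA.ET f E ((Over.map s).obj T))) :
    toX' sq e (FGA.quotPull f E ((Over.map s).map g) K) = FGA.quotPull f' E' g (toX' sq e K) := by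
  have h3 : (sig sq T' ≫ PicF.XTmap f ((Over.map s).map g)) ≫
      Limits.pullback.fst f ((Over.map s).obj T).hom = Limits.pullback.fst f' T'.hom ≫ g' := by
    rw [Category.assoc, XTmap_fst, sig_fst]
  have h1 := compat_left (sig sq T') (PicF.XTmap f ((Over.map s).map g))
    (sig sq T' ≫ PicF.XTmap f ((Over.map s).map g))
    (Limits.pullback.fst f ((Over.map s).obj T).hom) (Limits.pullback.fst f ((Over.map s).obj T').hom)
    (Limits.pullback.fst f' T'.hom) g' rfl (FGA.XTmap_fst f ((Over.map s).map g)) (sig_fst sq T') h3 e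
  have h2 := compat_right (PicF.XTmap f' g) (sig sq T) (sig sq T' ≫ PicF.XTmap f ((Over.map s).map g))
    (Limits.pullback.fst f ((Over.map s).obj T).hom) (Limits.pullback.fst f' T.hom)
    (Limits.pullback.fst f' T'.hom) g' (XTmap_sig sq g) (sig_fst sq T) (FGA.XTmap_fst f' g) h3 e
  rw [toX', quotPull_eq_subPull, ETiso_eq_tri, quotPull_eq_subPull, ETiso_eq_tri]
  exact (h1.subPull_comp K).symm.trans (h2.subPull_comp K)

variable {r d : ℕ} (hE : FlatMod.IsFinLocFreeOfRank r E)

include hE in
lemma toX'_injective {T : Over S'} {K K' : Subobject (FGA.ET f E ((Over.map s).obj T))}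
    (h : toX' sq e K = toX' sq e K') : K = K' := by
  have h1 : Set.range (sig sq T) = Set.univ := (sig sq T).homeomorph.surjective.range_eq
  exact eq_of_subPull (sig sq T) (chi sq e T) (isFinLocFree_ET f hE _)
    (h1 ▸ Set.subset_univ _) (h1 ▸ Set.subset_univ _) h

/-- the dictionary on families. -/
theorem isRelFinLen_toX' {T : Over S'} {K : Subobject (FGA.ET f E ((Over.map s).obj T))}
    (hK : QuotD.IsRelFinLen (PicF.XTproj f ((Over.map s).obj T)) d (cokernel K.arrow)) :
    QuotD.IsRelFinLen (PicF.XTproj f' T) d (cokernel (toX' sq e K).arrow) := by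
  obtain ⟨i, -⟩ := exists_cokernel_subPull (sig sq T) (chi sq e T) K
  exact RelLen.of_iso i.symm (RelLen.of_isoScheme (sig sq T) (sig_snd sq T) hK)

theorem exists_toX'_eq {T : Over S'} (K' : QuotD.Obj f' E' d T) :
    ∃ K : QuotD.Obj f E d ((Over.map s).obj T), toX' sq e K.1 = K'.1 := by
  let K : Subobject (FGA.ET f E ((Over.map s).obj T)) := extSub (sig sq T) (chi sq e T) K'.1
  have h1 : toX' sq e K = K'.1 := subPull_extSub _ _ _
  obtain ⟨i, -⟩ := exists_cokernel_subPull (sig sq T) (chi sq e T) K
  have h2 : QuotD.IsRelFinLen (PicF.XTproj f' T) d (cokernel (subPull (sig sq T) (chi sq e T) K).arrow) := by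
    have := K'.2
    rw [← h1] at this
    exact this
  have h3 := RelLen.of_iso i h2
  have h4 := RelLen.of_isoScheme (p := PicF.XTproj f' T) (p' := PicF.XTproj f ((Over.map s).obj T))
    (inv (sig sq T)) (by rw [IsIso.inv_comp_eq, sig_snd]) h3
  have i2 : (Scheme.Modules.pullback (inv (sig sq T))).obj
      ((Scheme.Modules.pullback (sig sq T)).obj (cokernel K.arrow)) ≅ cokernel K.arrow :=
    (Scheme.Modules.pullbackComp (inv (sig sq T)) (sig sq T)).app _ ≪≫
      (Scheme.Modules.pullbackCongr (IsIso.inv_hom_id (sig sq T))).app _ ≪≫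
        (Scheme.Modules.pullbackId _).app _
  exact ⟨⟨K, RelLen.of_iso i2 h4⟩, h1⟩

variable {H : Over S} {u : QuotD.Obj f E d H} (hu : QuotD.IsUniversal f E d H u) {H' : Over S'}
  (t : H'.left ⟶ H.left) (sqH : IsPullback t H'.hom H.hom s)

include sq e hE hu sqH in
/-- **Base change** of the universal family. -/
theorem isUniversal_baseChange : ∃ u' : QuotD.Obj f' E' d H', QuotD.IsUniversal f' E' d H' u' := by
  let tO : (Over.map s).obj H' ⟶ H := Over.homMk t sqH.w
  refine ⟨⟨toX' sq e (FGA.quotPull f E tO u.1), isRelFinLen_toX' sq e (pullObj f tO u).2⟩, ?_⟩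
  intro T q'
  obtain ⟨q, hq⟩ := exists_toX'_eq sq e q'
  obtain ⟨g, hg, hg'⟩ := hu _ q
  have hgw : g.left ≫ H.hom = T.hom ≫ s := Over.w g
  let g₁ : T ⟶ H' := Over.homMk (sqH.lift g.left T.hom hgw) (sqH.lift_snd _ _ _)
  have h1 : (Over.map s).map g₁ ≫ tO = g := by
    ext
    exact sqH.lift_fst g.left T.hom hgw
  refine ⟨g₁, ?_, ?_⟩
  · change FGA.quotPull f' E' g₁ (toX' sq e (FGA.quotPull f E tO u.1)) = q'.1
    rw [← toX'_quotPull, ← quotPull_comp, h1, hg, hq]
  · intro g₂ h2
    have h3 : toX' sq e (FGA.quotPull f E ((Over.map s).map g₂ ≫ tO) u.1) = toX' sq e q.1 := by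
      rw [quotPull_comp, toX'_quotPull, hq]
      exact h2
    have h4 := hg' _ (toX'_injective sq e hE h3)
    ext
    apply sqH.hom_ext
    · have h5 : g₂.left ≫ t = g.left := congrArg (fun a => a.left) h4
      rw [h5]
      exact (sqH.lift_fst g.left T.hom hgw).symm
    · exact (Over.w g₂).trans (Over.w g₁).symm

end K703.BC
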