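import Groth.Agent.RelQuot.K703.RelLen
import Groth.Agent.Picfga.HilbZar
import Groth.Agent.Fixpt.H907.Supp

/-!
# Families of length `d` quotients of two modules which agree on an open

For an open immersion `w : W ⟶ X` and `φ : w^* E ≅ G`, `φ' : w^* F ≅ G`, the relation `Corr φ φ' K K'` between
submodules `K ≤ E_T` and `K' ≤ F_T`; it is stable under base change and a bijection between the families of
quotients supported over `W`.
-/

set_option autoImplicit false
set_option backward.isDefEq.respectTransparency false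
universe u

open CategoryTheory CategoryTheory.Limits AlgebraicGeometry TopologicalSpace Opposite

namespace K703.Chart

open Groth.Agent.Fga.SubobjSec Groth.Agent.Fga.SubPull Groth.Agent.Fga.QuotPull
open Groth.Agent.Picfga.HilbPull Groth.Agent.Picfga.HilbZar K703.SqIso K703.SuppSub

variable {X S W : Scheme.{u}} (f : X ⟶ S) (w : W ⟶ X)

/-- The part of `X_T` over `W`. -/
noncomputable def WT (T : Over S) : Scheme.{u} := Limits.pullback w (Limits.pullback.fst f T.hom)

/-- The inclusion in `X_T`. -/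
noncomputable def jT (T : Over S) : WT f w T ⟶ PicF.XT f T := pullback.snd _ _

/-- The projection to `W`. -/
noncomputable def rT (T : Over S) : WT f w T ⟶ W := pullback.fst _ _

lemma jT_fst (T : Over S) : jT f w T ≫ pullback.fst f T.hom = rT f w T ≫ w := pullback.condition.symm

instance [IsOpenImmersion w] (T : Over S) : IsOpenImmersion (jT f w T) :=
  inferInstanceAs (IsOpenImmersion (pullback.snd w (Limits.pullback.fst f T.hom)))

lemma range_jT (T : Over S) :
    Set.range (jT f w T) = (Limits.pullback.fst f T.hom) ⁻¹' Set.range w :=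
  Scheme.Pullback.range_snd _ _

/-- Functoriality in `T`. -/
noncomputable def WTmap {T T' : Over S} (g : T' ⟶ T) : WT f w T' ⟶ WT f w T :=
  pullback.lift (rT f w T') (jT f w T' ≫ PicF.XTmap f g)
    (by rw [Category.assoc, XTmap_fst, jT_fst])

lemma WTmap_rT {T T' : Over S} (g : T' ⟶ T) : WTmap f w g ≫ rT f w T = rT f w T' :=
  pullback.lift_fst _ _ _

lemma WTmap_jT {T T' : Over S} (g : T' ⟶ T) : WTmap f w g ≫ jT f w T = jT f w T' ≫ PicF.XTmap f g :=
  pullback.lift_snd _ _ _

section Res

variable {E : X.Modules} {G : W.Modules} (φ : (Scheme.Modules.pullback w).obj E ≅ G)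

/-- The identification of `E_T` with `G_T` over `W`. -/
noncomputable def psi (T : Over S) : (Scheme.Modules.pullback (jT f w T)).obj (FGA.ET f E T) ≅
    (Scheme.Modules.pullback (rT f w T)).obj G :=
  sqIso (jT f w T) (Limits.pullback.fst f T.hom) (rT f w T) w (jT_fst f w T) φ

/-- The restriction to `W` of a submodule of `E_T`. -/
noncomputable def resW {T : Over S} (K : Subobject (FGA.ET f E T)) :
    Subobject ((Scheme.Modules.pullback (rT f w T)).obj G) :=
  subPull (jT f w T) (psi f w φ T) K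

lemma resW_quotPull {T T' : Over S} (g : T' ⟶ T) (K : Subobject (FGA.ET f E T)) :
    resW f w φ (FGA.quotPull f E g K) =
      subPull (WTmap f w g) (tri (WTmap f w g) (rT f w T) (rT f w T') (WTmap_rT f w g) G)
        (resW f w φ K) := by
  have h3 : (jT f w T' ≫ PicF.XTmap f g) ≫ Limits.pullback.fst f T.hom = rT f w T' ≫ w := by
    rw [Category.assoc, XTmap_fst, jT_fst]
  have h1 := compat_left (jT f w T') (PicF.XTmap f g) (jT f w T' ≫ PicF.XTmap f g)
    (Limits.pullback.fst f T.hom) (Limits.pullback.fst f T'.hom) (rT f w T') w rfl (FGA.XTmap_fst f g)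
    (jT_fst f w T') h3 φ
  have h2 := compat_right (WTmap f w g) (jT f w T) (jT f w T' ≫ PicF.XTmap f g)
    (Limits.pullback.fst f T.hom) (rT f w T) (rT f w T') w (WTmap_jT f w g) (jT_fst f w T)
    (WTmap_rT f w g) h3 φ
  rw [resW, quotPull_eq_subPull, ETiso_eq_tri, resW]
  exact (h1.subPull_comp K).symm.trans (h2.subPull_comp K)

end Res

section Supp

variable {E : X.Modules} {r : ℕ} (hE : FlatMod.IsFinLocFreeOfRank r E)

include hE in
theorem isFinLocFree_ET (T : Over S) : FlatMod.IsFinLocFree (FGA.ET f E T) := fun x => by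
  obtain ⟨U, hx, h⟩ := isFinLocFree_pullback (Limits.pullback.fst f T.hom) hE x
  exact ⟨U, r, hx, h⟩

include hE in
theorem supp_quotPull {T T' : Over S} (g : T' ⟶ T) (K : Subobject (FGA.ET f E T)) :
    supp (FGA.quotPull f E g K) = PicF.XTmap f g ⁻¹' supp K := by
  rw [quotPull_eq_subPull]
  exact supp_subPull (isFinLocFree_ET f hE T) K _ _

variable {d : ℕ}

/-- Pull-back of families of quotients of length `d`. -/
noncomputable def pullObj {T T' : Over S} (g : T' ⟶ T) (K : QuotD.Obj f E d T) : QuotD.Obj f E d T' :=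
  ⟨FGA.quotPull f E g K.1, by
    obtain ⟨e, -⟩ := exists_cokernel_quotPull f E g K.1
    exact RelLen.of_iso e.symm (RelLen.pull (isPullback_XTmap f g) K.2)⟩

@[simp] theorem pullObj_val {T T' : Over S} (g : T' ⟶ T) (K : QuotD.Obj f E d T) :
    (pullObj f g K).1 = FGA.quotPull f E g K.1 := rfl

theorem hom_ext_of_isUniversal {H : Over S} {u : QuotD.Obj f E d H} (hu : QuotD.IsUniversal f E d H u)
    {T : Over S} {a b : T ⟶ H} (h : FGA.quotPull f E a u.1 = FGA.quotPull f E b u.1) : a = b :=
  (hu T (pullObj f a u)).unique rfl h.symm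

theorem supp_subset {T : Over S} (K : QuotD.Obj f E d T) : ∃ I : (PicF.XT f T).IdealSheafData,
    IsFinite (I.subschemeι ≫ PicF.XTproj f T) ∧ supp K.1 ⊆ (I.support : Set (PicF.XT f T)) := by
  obtain ⟨-, ⟨I, hI, hk⟩, -⟩ := K.2
  refine ⟨I, hI, Groth.Agent.Fixpt.H907.Supp.support_of_killed I 1 ?_⟩
  rw [pow_one]
  exact hk

include hE in
theorem isOpen_locus {T : Over S} (K : QuotD.Obj f E d T) {R : Set X} (hR : IsOpen R) :
    IsOpen {t : T.left | ∀ z : PicF.XT f T, PicF.XTproj f T z = t → z ∈ supp K.1 →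
      Limits.pullback.fst f T.hom z ∈ R} := by
  obtain ⟨I, hI, hs⟩ := supp_subset f K
  let C : Set (PicF.XT f T) := supp K.1 ∩ ((Limits.pullback.fst f T.hom) ⁻¹' R)ᶜ
  have hC : IsClosed C := (isClosed_supp (isFinLocFree_ET f hE T) K.1).inter
    (hR.preimage (Limits.pullback.fst f T.hom).continuous).isClosed_compl
  have h1 : {t : T.left | ∀ z : PicF.XT f T, PicF.XTproj f T z = t → z ∈ supp K.1 →
      Limits.pullback.fst f T.hom z ∈ R} =
      ((I.subschemeι ≫ PicF.XTproj f T) '' (I.subschemeι ⁻¹' C))ᶜ := by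
    ext t
    constructor
    · rintro h ⟨z, hz, rfl⟩
      exact hz.2 (h (I.subschemeι z) rfl hz.1)
    · intro h z hz hzs
      by_contra hc
      have h2 : z ∈ Set.range I.subschemeι := by
        rw [I.range_subschemeι]
        exact hs hzs
      obtain ⟨z₀, rfl⟩ := h2
      exact h ⟨z₀, ⟨hzs, hc⟩, hz⟩
  rw [h1]
  exact ((I.subschemeι ≫ PicF.XTproj f T).isClosedMap _ (hC.preimage I.subschemeι.continuous)).isOpen_compl

/-- The locus where the quotient is supported over the open `R`. -/
noncomputable def locus {T : Over S} (K : QuotD.Obj f E d T) (R : X.Opens) : T.left.Opens :=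
  ⟨{t : T.left | ∀ z : PicF.XT f T, PicF.XTproj f T z = t → z ∈ supp K.1 →
      Limits.pullback.fst f T.hom z ∈ R}, isOpen_locus f hE K R.isOpen⟩

theorem mem_locus {T : Over S} (K : QuotD.Obj f E d T) (R : X.Opens) (t : T.left) :
    t ∈ locus f hE K R ↔ ∀ z : PicF.XT f T, PicF.XTproj f T z = t → z ∈ supp K.1 →
      Limits.pullback.fst f T.hom z ∈ R := Iff.rfl

/-- The condition that the quotient is supported over `R`. -/
theorem forall_mem_locus {T : Over S} (K : QuotD.Obj f E d T) (R : X.Opens) :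
    (∀ t, t ∈ locus f hE K R) ↔ supp K.1 ⊆ (Limits.pullback.fst f T.hom) ⁻¹' (R : Set X) :=
  ⟨fun h z hz => h _ z rfl hz, fun h t z _ hz => h hz⟩

theorem mem_locus_pullObj {T T' : Over S} (g : T' ⟶ T) (K : QuotD.Obj f E d T) (R : X.Opens)
    (t : T'.left) : t ∈ locus f hE (pullObj f g K) R ↔ g.left t ∈ locus f hE K R := by
  rw [mem_locus, mem_locus]
  constructor
  · intro h z hz hzs
    obtain ⟨z', hz', ht'⟩ := Scheme.exists_preimage_of_isPullback (isPullback_XTmap f g) z t hz
    have h1 : z' ∈ supp (pullObj f g K).1 := by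
      rw [pullObj_val, supp_quotPull f hE]
      change PicF.XTmap f g z' ∈ supp K.1
      rw [hz']
      exact hzs
    have h2 := h z' ht' h1
    have h3 := congr($(XTmap_fst f g) z')
    simp only [Scheme.Hom.comp_apply] at h3
    rwa [← h3, hz'] at h2
  · intro h z hz hzs
    rw [pullObj_val, supp_quotPull f hE] at hzs
    have h3 := congr($(XTmap_fst f g) z)
    have h4 := congr($(XTmap_snd f g) z)
    simp only [Scheme.Hom.comp_apply] at h3 h4
    rw [← h3]
    refine h (PicF.XTmap f g z) ?_ hzs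
    rw [h4, hz]

end Supp

section Corr

variable [IsOpenImmersion w] {E F : X.Modules} {r r' : ℕ} {G : W.Modules} {d : ℕ}
  (φ : (Scheme.Modules.pullback w).obj E ≅ G) (φ' : (Scheme.Modules.pullback w).obj F ≅ G)

/-- The correspondence between submodules of `E_T` and of `F_T` whose quotients are supported over `W`. -/
structure Corr {T : Over S} (K : Subobject (FGA.ET f E T)) (K' : Subobject (FGA.ET f F T)) : Prop where
  res : resW f w φ K = resW f w φ' K'
  sub : supp K ⊆ Set.range (jT f w T)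
  supp_eq : supp K' = supp K

variable {f w φ φ'}

omit [IsOpenImmersion w] in
theorem Corr.symm {T : Over S} {K : Subobject (FGA.ET f E T)} {K' : Subobject (FGA.ET f F T)}
    (h : Corr f w φ φ' K K') : Corr f w φ' φ K' K :=
  ⟨h.res.symm, h.supp_eq.le.trans h.sub, h.supp_eq.symm⟩

omit [IsOpenImmersion w] in
theorem Corr.pull (hE : FlatMod.IsFinLocFreeOfRank r E) (hF : FlatMod.IsFinLocFreeOfRank r' F)
    {T T' : Over S} {K : Subobject (FGA.ET f E T)} {K' : Subobject (FGA.ET f F T)}
    (h : Corr f w φ φ' K K') (g : T' ⟶ T) :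
    Corr f w φ φ' (FGA.quotPull f E g K) (FGA.quotPull f F g K') := by
  refine ⟨?_, ?_, ?_⟩
  · rw [resW_quotPull, resW_quotPull, h.res]
  · rw [supp_quotPull f hE, range_jT]
    intro z hz
    have h1 := h.sub hz
    rw [range_jT] at h1
    have h3 := congr($(XTmap_fst f g) z)
    simp only [Scheme.Hom.comp_apply] at h3
    change Limits.pullback.fst f T'.hom z ∈ Set.range w
    rw [← h3]
    exact h1
  · rw [supp_quotPull f hE, supp_quotPull f hF, h.supp_eq]

theorem Corr.unique (hF : FlatMod.IsFinLocFreeOfRank r' F) {T : Over S} {K : Subobject (FGA.ET f E T)}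
    {K₁ K₂ : Subobject (FGA.ET f F T)} (h₁ : Corr f w φ φ' K K₁) (h₂ : Corr f w φ φ' K K₂) : K₁ = K₂ :=
  eq_of_subPull (jT f w T) (psi f w φ' T) (isFinLocFree_ET f hF T) (h₁.supp_eq.le.trans h₁.sub)
    (h₂.supp_eq.le.trans h₂.sub) (h₁.res.symm.trans h₂.res)

variable (φ φ') in
theorem exists_corr (hE : FlatMod.IsFinLocFreeOfRank r E) (hF : FlatMod.IsFinLocFreeOfRank r' F)
    {T : Over S} (K : QuotD.Obj f E d T) (h : supp K.1 ⊆ Set.range (jT f w T)) :
    ∃ K' : QuotD.Obj f F d T, Corr f w φ φ' K.1 K'.1 := by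
  obtain ⟨K', h1, h2, ⟨e⟩⟩ := exists_transport (jT f w T) (psi f w φ T) (psi f w φ' T)
    (isFinLocFree_ET f hE T) (isFinLocFree_ET f hF T) K.1 h
  exact ⟨⟨K', RelLen.of_iso e K.2⟩, ⟨h1.symm, h, h2⟩⟩

end Corr

end K703.Chart
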