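import Groth.Agent.HilbZeta.K940.K0Bij

/-!
# Comparison of classes in the Grothendieck ring along a finite family of charts
-/

set_option autoImplicit false
universe u

open CategoryTheory CategoryTheory.Limits AlgebraicGeometry TopologicalSpace

namespace K703.K0Cmp

theorem exists_lift {Z W T : Scheme.{u}} (i : Z ⟶ W) [IsClosedImmersion i] (t : T ⟶ W) [IsReduced T]
    (h : ∀ x : T, t x ∈ Set.range i) : ∃ l : T ⟶ Z, l ≫ i = t := by
  have h1 : Surjective (pullback.snd i t) := by
    refine ⟨fun x => ?_⟩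
    obtain ⟨z, hz⟩ := h x
    obtain ⟨w, -, hw⟩ := Scheme.Pullback.exists_preimage_pullback (f := i) (g := t) z x hz
    exact ⟨w, hw⟩
  have h2 : IsIso (pullback.snd i t) := isIso_of_isClosedImmersion_of_surjective _
  refine ⟨inv (pullback.snd i t) ≫ pullback.fst i t, ?_⟩
  rw [Category.assoc, pullback.condition, IsIso.inv_hom_id_assoc]

theorem exists_min {m : ℕ} (P : Fin m → Prop) (h : ∃ i, P i) : ∃ i, P i ∧ ∀ j, j < i → ¬ P j := by
  classical
  obtain ⟨i, hi, hmin⟩ := WellFounded.has_min (wellFounded_lt (α := Fin m)) {i | P i} h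
  exact ⟨i, hi, fun j hj hP => hmin j hP hj⟩

variable {S H H' : Scheme.{u}} [NoetherianSpace H] [NoetherianSpace H'] (p : H ⟶ S) (p' : H' ⟶ S)
  [LocallyOfFiniteType p] [QuasiCompact p] [LocallyOfFiniteType p'] [QuasiCompact p']

/-- Two schemes of finite type with charts `G i : U i ⟶ H'` which are injective on points with values in any
scheme, surject on the field-valued points of `V i`, and are compatible with the covers, have the same class. -/
theorem cl_eq_of_charts {m : ℕ} (U : Fin m → H.Opens) (V : Fin m → H'.Opens)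
    (hU : ∀ x, ∃ i, x ∈ U i) (hV : ∀ y, ∃ i, y ∈ V i) (G : ∀ i, (U i : Scheme.{u}) ⟶ H')
    (hMono : ∀ i, Mono (G i)) (hG : ∀ i, G i ≫ p' = (U i).ι ≫ p)
    (hmem : ∀ (i j : Fin m) (x : U i), x.1 ∈ U j ↔ G i x ∈ V j)
    (hpt : ∀ (i : Fin m) (K : Type u) [Field K] (y : Spec (CommRingCat.of K) ⟶ H'), (∀ t, y t ∈ V i) →
      ∃ x : Spec (CommRingCat.of K) ⟶ U i, x ≫ G i = y) :
    K0Var.cl p = K0Var.cl p' := by
  classical
  -- the strata
  let C : ∀ i, Set (U i) := fun i => {x | ∀ j, j < i → x.1 ∉ U j}
  have hC : ∀ i, IsClosed (C i) := by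
    intro i
    have h1 : C i = ⋂ (j : Fin m) (_ : j < i), ((U i).ι ⁻¹' (U j : Set H))ᶜ := by
      ext x
      simp only [C, Set.mem_ofPred_eq, Set.mem_iInter]
      rfl
    rw [h1]
    exact isClosed_biInter fun j _ => ((U j).isOpen.preimage (U i).ι.continuous).isClosed_compl
  choose Z z hz hred hrange using fun i => K928.NoethInd.exists_reduced_closed (C i) (hC i)
  have hNU : ∀ i, NoetherianSpace (U i) := fun i => (U i).ι.isOpenEmbedding.isInducing.noetherianSpace
  have hNZ : ∀ i, NoetherianSpace (Z i) := fun i =>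
    K928.K0Calc.noetherian_of_isClosedImmersion (z i)
  have hzC : ∀ i (x : Z i), z i x ∈ C i := fun i x => by
    rw [← hrange i]
    exact ⟨x, rfl⟩
  have hsub : ∀ (K : Type u) [Field K], Subsingleton (Spec (CommRingCat.of K)) := fun K _ =>
    inferInstanceAs (Subsingleton (PrimeSpectrum K))
  have hzM : ∀ i, Mono (z i) := fun i => inferInstance
  -- first side
  have e1 : K0Var.cl p = ∑ i, K0Var.cl ((z i ≫ (U i).ι) ≫ p) := by
    refine K940.K0Bij.cl_eq_sum_of_points p Z (fun i => z i ≫ (U i).ι) fun K _ y => ?_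
    have := hsub K
    let t₀ : Spec (CommRingCat.of K) := IsLocalRing.closedPoint K
    obtain ⟨i, hi, hmin⟩ := exists_min (fun i => y t₀ ∈ U i) (hU _)
    have hr : Set.range y ⊆ Set.range (U i).ι := by
      rintro _ ⟨t, rfl⟩
      rw [Subsingleton.elim t t₀, Scheme.Opens.range_ι]
      exact hi
    let y₁ := IsOpenImmersion.lift (U i).ι y hr
    have hy₁ : y₁ ≫ (U i).ι = y := IsOpenImmersion.lift_fac _ _ _
    have hy₁' : ∀ t, (y₁ t).1 = y t := fun t => by
      have := congr($(hy₁) t)
      rwa [Scheme.Hom.comp_apply] at this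
    obtain ⟨l, hl⟩ := exists_lift (z i) y₁ (fun t => by
      rw [hrange i]
      intro j hj
      rw [hy₁', Subsingleton.elim t t₀]
      exact hmin j hj)
    refine ⟨⟨i, l⟩, ?_, ?_⟩
    · change l ≫ z i ≫ (U i).ι = y
      rw [← Category.assoc, hl, hy₁]
    · rintro ⟨i', l'⟩ hl'
      have h1 : l' ≫ z i' ≫ (U i').ι = y := hl'
      have h2 : ((z i') (l' t₀)).1 = y t₀ := by
        have := congr($(h1) t₀)
        simp only [Scheme.Hom.comp_apply] at this
        exact this
      have h3 : i' = i := by
        rcases lt_trichotomy i' i with h | h | h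
        · exact absurd (h2 ▸ ((z i') (l' t₀)).2) (hmin i' h)
        · exact h
        · exact absurd (h2 ▸ hi) (hzC i' (l' t₀) i h)
      subst h3
      have h4 : l' = l := by
        rw [← cancel_mono (z i'), ← cancel_mono (U i').ι, Category.assoc, Category.assoc, h1,
          ← Category.assoc, hl, hy₁]
      rw [h4]
  -- second side
  have hLFT : ∀ i, LocallyOfFiniteType (z i ≫ G i) := fun i => by
    have h1 : (z i ≫ G i) ≫ p' = z i ≫ (U i).ι ≫ p := by rw [Category.assoc, hG]
    have h2 : LocallyOfFiniteType ((z i ≫ G i) ≫ p') := by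
      rw [h1]
      infer_instance
    exact locallyOfFiniteType_of_comp _ p'
  have hMG : ∀ i, Mono (z i ≫ G i) := fun i => by
    have := hMono i
    infer_instance
  have e2 : K0Var.cl p' = ∑ i, K0Var.cl ((z i ≫ G i) ≫ p') := by
    refine K940.K0Bij.cl_eq_sum_of_points p' Z (fun i => z i ≫ G i) fun K _ y => ?_
    have := hsub K
    let t₀ : Spec (CommRingCat.of K) := IsLocalRing.closedPoint K
    obtain ⟨i, hi, hmin⟩ := exists_min (fun i => y t₀ ∈ V i) (hV _)
    obtain ⟨x, hx⟩ := hpt i K y (fun t => by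
      rw [Subsingleton.elim t t₀]
      exact hi)
    have hx' : ∀ t, G i (x t) = y t := fun t => by
      have := congr($(hx) t)
      rwa [Scheme.Hom.comp_apply] at this
    obtain ⟨l, hl⟩ := exists_lift (z i) x (fun t => by
      rw [hrange i]
      intro j hj hc
      rw [hmem i j, hx', Subsingleton.elim t t₀] at hc
      exact hmin j hj hc)
    refine ⟨⟨i, l⟩, ?_, ?_⟩
    · change l ≫ z i ≫ G i = y
      rw [← Category.assoc, hl, hx]
    · rintro ⟨i', l'⟩ hl'
      have h1 : l' ≫ z i' ≫ G i' = y := hl'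
      have h2 : G i' ((z i') (l' t₀)) = y t₀ := by
        have := congr($(h1) t₀)
        simp only [Scheme.Hom.comp_apply] at this
        exact this
      have h3 : i' = i := by
        rcases lt_trichotomy i' i with h | h | h
        · refine absurd ?_ (hmin i' h)
          rw [← h2]
          exact (hmem i' i' _).1 ((z i') (l' t₀)).2
        · exact h
        · refine absurd ((hmem i' i _).2 ?_) (hzC i' (l' t₀) i h)
          rw [h2]
          exact hi
      subst h3
      have h4 : l' = l := by
        rw [← cancel_mono (z i' ≫ G i'), h1, ← Category.assoc, hl, hx]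
      rw [h4]
  rw [e1, e2]
  refine Finset.sum_congr rfl fun i _ => ?_
  congr 1
  rw [Category.assoc, Category.assoc, hG]

end K703.K0Cmp
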