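import Groth.Agent.Grass.K652.NearBasis
import Groth.Agent.Fdesc.QCohStalk
import Groth.Agent.Ega2.QCohLocal

/-!
# Semi-local triviality

A module locally free of rank `r` is free near any finite set of points of an affine open.
-/

set_option autoImplicit false
universe u

open CategoryTheory CategoryTheory.Limits AlgebraicGeometry Opposite TopologicalSpace

namespace K703.Semi

open Groth.Agent.Sga67.Sec Groth.Agent.Sga67.LocBasis K652.BasisCrit K652.NearBasis
open Groth.Agent.Krr.H490.NrmSub2 (isUnit_basicOpen mem_basicOpen_of_isUnit)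

variable {X : Scheme.{u}} {M : X.Modules} {W : X.Opens}

theorem isQCoh {r : ℕ} (hM : FlatMod.IsFinLocFreeOfRank r M) : Coh.IsQCoh M := by
  refine Groth.Agent.Ega2.QCohLocal.isQCoh_of_isFinLocFree fun x => ?_
  obtain ⟨U, hx, h⟩ := hM x
  exact ⟨U, r, hx, h⟩

theorem isMat_diagonal {κ : Type*} [Fintype κ] [DecidableEq κ] (b : κ → Sec M W) (d : κ → Γ(X, W)) :
    IsMat b (fun j => d j • b j) (Matrix.diagonal d) := by
  intro j
  rw [Finset.sum_eq_single j]
  · rw [Matrix.diagonal_apply_eq]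
  · intro i _ hi
    rw [Matrix.diagonal_apply_ne _ hi, zero_smul]
  · intro h
    exact absurd (Finset.mem_univ j) h

/-- Near a point of an affine open `W` there is a basis consisting of sections over `W`. -/
theorem exists_near {r : ℕ} (hM : FlatMod.IsFinLocFreeOfRank r M) (hW : IsAffineOpen W) (x : X)
    (hx : x ∈ W) : ∃ (V : X.Opens) (hV : V ≤ W) (t : Fin r → Sec M W), x ∈ V ∧
      IsLocBasis (fun j => res M hV (t j)) := by
  obtain ⟨V₀, hV₀, b, hxV₀, hb⟩ := exists_locBasis_near hM x hx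
  obtain ⟨h, hh, hxh⟩ := hW.exists_basicOpen_le ⟨x, hxV₀⟩ hx
  have hh' : X.basicOpen h ≤ V₀ := hh
  have ht := fun j => Groth.Agent.Fdesc.QCohStalk.exists_map_eq_pow_smul M hW (isQCoh hM) h
    (res M hh' (b j))
  choose n t ht using ht
  refine ⟨X.basicOpen h, X.basicOpen_le h, t, hxh, ?_⟩
  have h1 : IsUnit (resO X (X.basicOpen_le h) h) := isUnit_basicOpen h _ le_rfl
  have h2 : (fun j => res M (X.basicOpen_le h) (t j)) =
      fun j => (resO X (X.basicOpen_le h) h) ^ n j • res M hh' (b j) := funext fun j => ht j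
  rw [h2]
  refine isLocBasis_of_isUnit_det (hb.restrict hh') (isMat_diagonal _ _) ?_
  rw [Matrix.det_diagonal]
  exact Finset.prod_induction _ IsUnit (fun a b ha hb => ha.mul hb) isUnit_one fun j _ => h1.pow _

/-- a closed point of an affine open specializing a given one. -/
theorem exists_closed (hW : IsAffineOpen W) (x : X) (hx : x ∈ W) :
    ∃ q : PrimeSpectrum Γ(X, W), q.asIdeal.IsMaximal ∧ x ⤳ hW.fromSpec q := by
  obtain ⟨m, hm, hle⟩ := (hW.primeIdealOf ⟨x, hx⟩).asIdeal.exists_le_maximal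
    (hW.primeIdealOf ⟨x, hx⟩).isPrime.ne_top
  refine ⟨⟨m, hm.isPrime⟩, hm, ?_⟩
  have h1 : (hW.primeIdealOf ⟨x, hx⟩) ⤳ (⟨m, hm.isPrime⟩ : PrimeSpectrum Γ(X, W)) :=
    (PrimeSpectrum.le_iff_specializes _ _).1 hle
  have h2 := h1.map hW.fromSpec.continuous
  rwa [hW.fromSpec_primeIdealOf] at h2

theorem mem_basicOpen_iff (hW : IsAffineOpen W) (q : PrimeSpectrum Γ(X, W)) (c : Γ(X, W)) :
    hW.fromSpec q ∈ X.basicOpen c ↔ c ∉ q.asIdeal := by
  have h1 : q ∈ (hW.fromSpec ⁻¹ᵁ X.basicOpen c : (Spec Γ(X, W)).Opens) ↔ c ∉ q.asIdeal := by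
    rw [hW.fromSpec_preimage_basicOpen]
    rfl
  exact h1

theorem exists_sep {A : Type*} [CommRing A] (S : Finset (PrimeSpectrum A)) (hS : ∀ q ∈ S, q.asIdeal.IsMaximal)
    (q : PrimeSpectrum A) (hq : q ∈ S) : ∃ c : A, c ∉ q.asIdeal ∧ ∀ q' ∈ S, q' ≠ q → c ∈ q'.asIdeal := by
  classical
  have h1 : ∀ q' : PrimeSpectrum A, ∃ a : A, a ∉ q.asIdeal ∧ (q' ∈ S → q' ≠ q → a ∈ q'.asIdeal) := by
    intro q'
    by_cases h : q' ∈ S ∧ q' ≠ q
    · have : ¬ q'.asIdeal ≤ q.asIdeal := fun hle =>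
        h.2 (PrimeSpectrum.ext ((hS q' h.1).eq_of_le (hS q hq).ne_top hle))
      obtain ⟨a, ha, ha'⟩ := SetLike.not_le_iff_exists.1 this
      exact ⟨a, ha', fun _ _ => ha⟩
    · exact ⟨1, fun h1 => (hS q hq).ne_top ((Ideal.eq_top_iff_one _).2 h1), fun h2 h3 => absurd ⟨h2, h3⟩ h⟩
  choose a ha ha' using h1
  refine ⟨∏ q' ∈ S, a q', ?_, fun q' hq' hne => ?_⟩
  · exact fun h => by
      obtain ⟨q', _, h2⟩ := (q.isPrime.prod_mem_iff).1 h
      exact ha q' h2
  · exact Ideal.mem_of_dvd _ (Finset.dvd_prod_of_mem a hq') (ha' q' hq' hne)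

/-- **Semi-local triviality.** -/
theorem exists_locBasis_finite {r : ℕ} (hM : FlatMod.IsFinLocFreeOfRank r M) (hW : IsAffineOpen W)
    (T : Set X) (hTf : T.Finite) (hT : ∀ x ∈ T, x ∈ W) :
    ∃ (V : X.Opens) (hV : V ≤ W) (s : Fin r → Sec M W), (∀ x ∈ T, x ∈ V) ∧
      IsLocBasis (fun j => res M hV (s j)) := by
  classical
  choose q hqm hqs using exists_closed hW
  have hfin : (Set.range fun x : T => q x.1 (hT x.1 x.2)).Finite := by
    have := hTf.to_subtype
    exact Set.finite_range _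
  let S : Finset (PrimeSpectrum Γ(X, W)) := hfin.toFinset
  have hSm : ∀ p ∈ S, p.asIdeal.IsMaximal := by
    intro p hp
    obtain ⟨x, rfl⟩ := (Set.Finite.mem_toFinset _).1 hp
    exact hqm _ _
  have hyW : ∀ p : PrimeSpectrum Γ(X, W), hW.fromSpec p ∈ W := fun p => by
    have : hW.fromSpec p ∈ Set.range hW.fromSpec := ⟨p, rfl⟩
    rwa [hW.range_fromSpec] at this
  choose V₀ hV₀ t htV ht using fun p : PrimeSpectrum Γ(X, W) => exists_near hM hW _ (hyW p)
  choose c hc hc' using exists_sep S hSm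
  let C : PrimeSpectrum Γ(X, W) → Γ(X, W) := fun p => if hp : p ∈ S then c p hp else 0
  have hC : ∀ p ∈ S, C p ∉ p.asIdeal := fun p hp => by simp only [C, dif_pos hp]; exact hc p hp
  have hC' : ∀ p ∈ S, ∀ p' ∈ S, p' ≠ p → C p' ∈ p.asIdeal := fun p hp p' hp' hne => by
    simp only [C, dif_pos hp']; exact hc' p' hp' p hp hne.symm
  let s : Fin r → Sec M W := fun j => ∑ p ∈ S, C p • t p j
  -- near each point of S
  have key : ∀ p ∈ S, ∃ (V : X.Opens) (hV : V ≤ W), hW.fromSpec p ∈ V ∧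
      IsLocBasis (fun j => res M hV (s j)) := by
    intro p hp
    choose P hP using fun p' : PrimeSpectrum Γ(X, W) =>
      exists_isMat (ht p) (fun j => res M (hV₀ p) (t p' j))
    let Q : Matrix (Fin r) (Fin r) Γ(X, V₀ p) := ∑ p' ∈ S, (resO X (hV₀ p) (C p')) • P p'
    have hQ : IsMat (fun j => res M (hV₀ p) (t p j)) (fun j => res M (hV₀ p) (s j)) Q := by
      intro j
      have e1 : res M (hV₀ p) (s j) = ∑ p' ∈ S, resO X (hV₀ p) (C p') • res M (hV₀ p) (t p' j) := by
        simp only [s, map_sum, res_smul]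
      have e2 : ∀ p', res M (hV₀ p) (t p' j) = ∑ i, P p' i j • res M (hV₀ p) (t p i) := fun p' => hP p' j
      have e3 : ∀ i, Q i j = ∑ p' ∈ S, resO X (hV₀ p) (C p') * P p' i j := fun i => by
        simp only [Q, Matrix.sum_apply, Matrix.smul_apply, smul_eq_mul]
      refine e1.trans ?_
      change _ = ∑ i, Q i j • res M (hV₀ p) (t p i)
      simp only [e3, Finset.sum_smul, mul_smul]
      rw [Finset.sum_comm]
      refine Finset.sum_congr rfl fun p' _ => ?_
      rw [e2 p', Finset.smul_sum]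
    have hPp : P p = 1 := by
      refine IsMat.unique (ht p) (hP p) ?_
      have := isMat_diagonal (fun j => res M (hV₀ p) (t p j)) (fun _ => 1)
      simpa using this
    let ev : Γ(X, V₀ p) →+* X.residueField (hW.fromSpec p) := (X.evaluation (V₀ p) _ (htV p)).hom
    have hev : ∀ c : Γ(X, W), ev (resO X (hV₀ p) c) = 0 ↔ c ∈ p.asIdeal := by
      intro c
      have e3 : ev (resO X (hV₀ p) c) = X.evaluation W _ (hyW p) c := by
        change X.residue _ (X.presheaf.germ (V₀ p) _ (htV p) (resO X (hV₀ p) c)) =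
          X.residue _ (X.presheaf.germ W _ (hyW p) c)
        congr 1
        exact TopCat.Presheaf.germ_res_apply X.presheaf (homOfLE (hV₀ p)) _ (htV p) c
      rw [e3, X.evaluation_eq_zero_iff_notMem_basicOpen, mem_basicOpen_iff hW, not_not]
    have hdet : ev Q.det ≠ 0 := by
      have e4 : ev.mapMatrix Q = Matrix.diagonal (fun _ => ev (resO X (hV₀ p) (C p))) := by
        ext i j
        simp only [Q, RingHom.mapMatrix_apply, Matrix.map_apply, Matrix.sum_apply, Matrix.smul_apply,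
          smul_eq_mul, map_sum, map_mul]
        rw [Finset.sum_eq_single p]
        · rw [hPp, Matrix.diagonal_apply, Matrix.one_apply]
          split_ifs <;> simp
        · intro p' hp' hne
          rw [(hev (C p')).2 (hC' p hp p' hp' hne), zero_mul]
        · intro h
          exact absurd hp h
      rw [RingHom.map_det, e4, Matrix.det_diagonal]
      exact Finset.prod_ne_zero_iff.2 fun _ _ => fun h => hC p hp ((hev _).1 h)
    have hmem : hW.fromSpec p ∈ X.basicOpen Q.det :=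
      (X.evaluation_ne_zero_iff_mem_basicOpen _ (htV p) _).1 hdet
    refine ⟨X.basicOpen Q.det, (X.basicOpen_le _).trans (hV₀ p), hmem, ?_⟩
    have := isLocBasis_basicOpen (ht p) hQ
    simpa only [res_res] using this
  choose V hV hmV hbV using key
  let V' : X.Opens := ⨆ p : S, V p.1 p.2
  have hV' : V' ≤ W := iSup_le fun p => hV p.1 p.2
  refine ⟨V', hV', s, ?_, ?_⟩
  · intro x hx
    have hp : q x (hT x hx) ∈ S := (Set.Finite.mem_toFinset _).2 ⟨⟨x, hx⟩, rfl⟩
    have h1 : x ∈ V _ hp := (hqs x (hT x hx)).mem_open (V _ hp).isOpen (hmV _ hp)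
    exact Opens.mem_iSup.2 ⟨⟨_, hp⟩, h1⟩
  · refine isLocBasis_of_locally _ fun x V₁ hV₁ hx => ?_
    obtain ⟨p, hp⟩ := Opens.mem_iSup.1 (hV₁ hx)
    refine ⟨V₁ ⊓ V p.1 p.2, inf_le_left.trans hV₁, inf_le_left, ⟨hx, hp⟩, ?_⟩
    have h1 := hbV p.1 p.2 (V₁ ⊓ V p.1 p.2) inf_le_right
    have h2 : (comb (fun j => res M hV' (s j)) (inf_le_left.trans hV₁) :
        (Fin r → Γ(X, V₁ ⊓ V p.1 p.2)) → Sec M (V₁ ⊓ V p.1 p.2)) =
        comb (fun j => res M (hV p.1 p.2) (s j)) inf_le_right := by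
      funext a
      simp only [comb_apply, res_res]
    rw [h2]
    exact h1

/-- A module locally free of rank `r` is free near any finite set of points of an affine open. -/
theorem exists_restrict_iso_free {r : ℕ} (hM : FlatMod.IsFinLocFreeOfRank r M) (hW : IsAffineOpen W)
    (T : Set X) (hTf : T.Finite) (hT : ∀ x ∈ T, x ∈ W) :
    ∃ V : X.Opens, V ≤ W ∧ (∀ x ∈ T, x ∈ V) ∧ Nonempty (M.restrict V.ι ≅ FlatMod.freeMod (↑V) r) := by
  obtain ⟨V, hV, s, h1, h2⟩ := exists_locBasis_finite hM hW T hTf hT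
  exact ⟨V, hV, h1, nonempty_restrict_iso_iff.2 ⟨_, h2⟩⟩

end K703.Semi
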