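import Groth.Agent.RelQuot.K703.BC
import Groth.Agent.RelQuot.K703.Semi
import Groth.Agent.RelQuot.K703.K0Cmp
import Mathlib.AlgebraicGeometry.Morphisms.QuasiFinite

/-!
# The class of the Quot scheme of length `d` quotients depends only on the rank

`cl_quot_eq`: for `f : X ⟶ Y` such that finite sets of points in a fibre lie in an affine open, and `E`, `F`
locally free of the same rank, the Quot schemes of length `d` quotients of `E` and of `F` have the same class.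
-/

set_option autoImplicit false
universe u

open CategoryTheory CategoryTheory.Limits AlgebraicGeometry TopologicalSpace Opposite

namespace K703.Main

open Groth.Agent.Fga.SubobjSec Groth.Agent.Fga.SubPull Groth.Agent.Fga.QuotPull
open K703.SqIso K703.SuppSub K703.Chart
open Groth.Agent.Sga67.LocBasis

variable {X Y : Scheme.{u}} (f : X ⟶ Y) {E F : X.Modules} {r : ℕ}

theorem triv_of_le {M : X.Modules} {V W : X.Opens} (h : W ≤ V)
    (hV : Nonempty (M.restrict V.ι ≅ FlatMod.freeMod (↑V) r)) :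
    Nonempty (M.restrict W.ι ≅ FlatMod.freeMod (↑W) r) := by
  obtain ⟨b, hb⟩ := nonempty_restrict_iso_iff.1 hV
  exact nonempty_restrict_iso_iff.2 ⟨_, hb.restrict h⟩

/-- A chart: an open on which both modules are trivial. -/
def IsChart (E F : X.Modules) (r : ℕ) (W : X.Opens) : Prop :=
  Nonempty (E.restrict W.ι ≅ FlatMod.freeMod (↑W) r) ∧ Nonempty (F.restrict W.ι ≅ FlatMod.freeMod (↑W) r)

theorem exists_chart (hE : FlatMod.IsFinLocFreeOfRank r E) (hF : FlatMod.IsFinLocFreeOfRank r F)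
    (T : Set X) (hT : T.Finite) (hA : ∃ U : X.Opens, IsAffineOpen U ∧ ∀ x ∈ T, x ∈ U) :
    ∃ W : X.Opens, IsChart E F r W ∧ ∀ x ∈ T, x ∈ W := by
  obtain ⟨U, hU, hTU⟩ := hA
  obtain ⟨V₁, -, hT₁, h₁⟩ := Semi.exists_restrict_iso_free hE hU T hT hTU
  obtain ⟨V₂, -, hT₂, h₂⟩ := Semi.exists_restrict_iso_free hF hU T hT hTU
  exact ⟨V₁ ⊓ V₂, ⟨triv_of_le inf_le_left h₁, triv_of_le inf_le_right h₂⟩, fun x hx => ⟨hT₁ x hx, hT₂ x hx⟩⟩

/-- The support over a point is finite. -/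
theorem finite_supp {d : ℕ} {T : Over Y} (K : QuotD.Obj f E d T) (t : T.left) :
    {z : PicF.XT f T | PicF.XTproj f T z = t ∧ z ∈ supp K.1}.Finite := by
  obtain ⟨I, hI, hs⟩ := supp_subset f K
  have h1 : ((I.subschemeι ≫ PicF.XTproj f T) ⁻¹' {t}).Finite := by
    exact Scheme.Hom.finite_preimage_singleton (I.subschemeι ≫ PicF.XTproj f T) t
  refine (h1.image I.subschemeι).subset ?_
  rintro z ⟨hz, hzs⟩
  have h2 : z ∈ Set.range I.subschemeι := by
    rw [I.range_subschemeι]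
    exact hs hzs
  obtain ⟨z₀, rfl⟩ := h2
  exact ⟨z₀, hz, rfl⟩

/-- Every point is in the locus of a chart. -/
theorem exists_mem_locus {E' : X.Modules} {r' : ℕ} (hE : FlatMod.IsFinLocFreeOfRank r E)
    (hF : FlatMod.IsFinLocFreeOfRank r F) (hE' : FlatMod.IsFinLocFreeOfRank r' E')
    (hA : ∀ (y : Y) (T : Set X), T.Finite → (∀ x ∈ T, f x = y) →
      ∃ U : X.Opens, IsAffineOpen U ∧ ∀ x ∈ T, x ∈ U) {d : ℕ} {T : Over Y}
    (K : QuotD.Obj f E' d T) (t : T.left) : ∃ W : X.Opens, IsChart E F r W ∧ t ∈ locus f hE' K W := by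
  let P : Set X := (Limits.pullback.fst f T.hom) ''
    {z : PicF.XT f T | PicF.XTproj f T z = t ∧ z ∈ supp K.1}
  have hP : P.Finite := (finite_supp f K t).image _
  obtain ⟨W, hW, hPW⟩ := exists_chart hE hF P hP (hA (T.hom t) P hP (by
    rintro _ ⟨z, ⟨hz, -⟩, rfl⟩
    have h1 := congr($(Limits.pullback.condition (f := f) (g := T.hom)) z)
    simp only [Scheme.Hom.comp_apply] at h1
    rw [h1]
    exact congrArg T.hom hz))
  exact ⟨W, hW, fun z hz hzs => hPW _ ⟨z, ⟨hz, hzs⟩, rfl⟩⟩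

section Chart

variable (hE : FlatMod.IsFinLocFreeOfRank r E) (hF : FlatMod.IsFinLocFreeOfRank r F) {d : ℕ}
  {H₁ : Over Y} {u₁ : QuotD.Obj f E d H₁} (h₁ : QuotD.IsUniversal f E d H₁ u₁)
  {H₂ : Over Y} {u₂ : QuotD.Obj f F d H₂} (h₂ : QuotD.IsUniversal f F d H₂ u₂)

theorem supp_eq_locus {T : Over Y} {K : QuotD.Obj f E d T} {K' : QuotD.Obj f F d T}
    (h : supp K'.1 = supp K.1) (R : X.Opens) (t : T.left) :
    t ∈ locus f hE K R ↔ t ∈ locus f hF K' R := by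
  rw [mem_locus, mem_locus, h]

theorem supp_subset_range {T : Over Y} (K : QuotD.Obj f E d T) (W : X.Opens)
    (h : ∀ t, t ∈ locus f hE K W) : supp K.1 ⊆ Set.range (jT f W.ι T) := by
  rw [range_jT, Scheme.Opens.range_ι]
  exact (forall_mem_locus f hE K W).1 h

end Chart

section Map

variable {f} {W : Scheme.{u}} {w : W ⟶ X} [IsOpenImmersion w] {N : W.Modules}
  {φ : (Scheme.Modules.pullback w).obj E ≅ N} {φ' : (Scheme.Modules.pullback w).obj F ≅ N}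
  (hE : FlatMod.IsFinLocFreeOfRank r E) (hF : FlatMod.IsFinLocFreeOfRank r F) {d : ℕ}
  {H₁ : Over Y} {u₁ : QuotD.Obj f E d H₁} (h₁ : QuotD.IsUniversal f E d H₁ u₁)
  {H₂ : Over Y} {u₂ : QuotD.Obj f F d H₂} (h₂ : QuotD.IsUniversal f F d H₂ u₂)

include hE hF h₁ in
/-- A pair of morphisms `i : T ⟶ H₁`, `g : T ⟶ H₂` with corresponding pull-backs, `i` mono: `g` is mono. -/
theorem mono_of_corr {T : Over Y} (i : T ⟶ H₁) (g : T ⟶ H₂) [Mono i.left]
    (hC : Corr f w φ φ' (FGA.quotPull f E i u₁.1) (FGA.quotPull f F g u₂.1)) : Mono g.left := by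
  have hpull : ∀ {T' : Over Y} (x : T' ⟶ T),
      Corr f w φ φ' (FGA.quotPull f E (x ≫ i) u₁.1) (FGA.quotPull f F (x ≫ g) u₂.1) := by
    intro T' x
    rw [quotPull_comp, quotPull_comp]
    exact hC.pull hE hF x
  constructor
  intro Z a b hab
  have hw : g.left ≫ H₂.hom = T.hom := Over.w g
  have hb : b ≫ T.hom = a ≫ T.hom := by
    rw [← hw, ← Category.assoc, ← Category.assoc, hab]
  let aO : Over.mk (a ≫ T.hom) ⟶ T := Over.homMk a rfl
  let bO : Over.mk (a ≫ T.hom) ⟶ T := Over.homMk b hb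
  have h3 : aO ≫ g = bO ≫ g := by
    ext
    exact hab
  have h4 := hpull aO
  have h5 := hpull bO
  rw [← h3] at h5
  have h6 : FGA.quotPull f E (aO ≫ i) u₁.1 = FGA.quotPull f E (bO ≫ i) u₁.1 :=
    h4.symm.unique hE h5.symm
  have h7 := hom_ext_of_isUniversal f h₁ h6
  have h8 : a ≫ i.left = b ≫ i.left := congrArg (fun c => c.left) h7
  exact (cancel_mono i.left).1 h8

omit [IsOpenImmersion w] in
theorem mem_locus_iff_of_corr {T : Over Y} (i : T ⟶ H₁) (g : T ⟶ H₂)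
    (hC : Corr f w φ φ' (FGA.quotPull f E i u₁.1) (FGA.quotPull f F g u₂.1)) (R : X.Opens) (x : T.left) :
    i.left x ∈ locus f hE u₁ R ↔ g.left x ∈ locus f hF u₂ R :=
  (mem_locus_pullObj f hE i u₁ R x).symm.trans
    ((supp_eq_locus f hE hF (K := pullObj f i u₁) (K' := pullObj f g u₂) hC.supp_eq R x).trans
      (mem_locus_pullObj f hF g u₂ R x))

include h₁ h₂ in
/-- Lifting of points. -/
theorem exists_lift_of_corr {T : Over Y} (i : T ⟶ H₁) (g : T ⟶ H₂) [IsOpenImmersion i.left]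
    (hC : Corr f w φ φ' (FGA.quotPull f E i u₁.1) (FGA.quotPull f F g u₂.1)) (R : X.Opens)
    (hR : (R : Set X) = Set.range w) (hi : ∀ x ∈ locus f hE u₁ R, x ∈ Set.range i.left)
    (Z : Scheme.{u}) (y : Z ⟶ H₂.left) (hy : ∀ t, y t ∈ locus f hF u₂ R) :
    ∃ x : Z ⟶ T.left, x ≫ g.left = y := by
  have hpull : ∀ {T' : Over Y} (x : T' ⟶ T),
      Corr f w φ φ' (FGA.quotPull f E (x ≫ i) u₁.1) (FGA.quotPull f F (x ≫ g) u₂.1) := by
    intro T' x
    rw [quotPull_comp, quotPull_comp]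
    exact hC.pull hE hF x
  let yO : Over.mk (y ≫ H₂.hom) ⟶ H₂ := Over.homMk y rfl
  have hyO : ∀ t, t ∈ locus f hF (pullObj f yO u₂) R := fun t =>
    (mem_locus_pullObj f hF yO u₂ R t).2 (hy t)
  obtain ⟨K, hK⟩ := exists_corr φ' φ hF hE (pullObj f yO u₂) (by
    rw [range_jT, ← hR]
    exact (forall_mem_locus f hF _ R).1 hyO)
  obtain ⟨x, hx, -⟩ := h₁ _ K
  have h3 : supp (pullObj f x u₁).1 = supp (pullObj f yO u₂).1 := by
    rw [Chart.pullObj_val, hx]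
    exact hK.supp_eq
  have hr : Set.range x.left ⊆ Set.range i.left := by
    rintro _ ⟨t, rfl⟩
    refine hi _ ?_
    rw [← mem_locus_pullObj f hE x u₁ R t, supp_eq_locus f hE hF h3.symm]
    exact hyO t
  let x₁ : (Over.mk (y ≫ H₂.hom)).left ⟶ T.left := IsOpenImmersion.lift i.left x.left hr
  have hx₁ : x₁ ≫ i.left = x.left := IsOpenImmersion.lift_fac _ _ _
  have hw : x₁ ≫ T.hom = (Over.mk (y ≫ H₂.hom)).hom := by
    rw [← Over.w i, ← Category.assoc, hx₁]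
    exact Over.w x
  let xO : Over.mk (y ≫ H₂.hom) ⟶ T := Over.homMk x₁ hw
  have h4 : xO ≫ i = x := by
    ext
    exact hx₁
  have h5 := hpull xO
  rw [h4, hx] at h5
  have h6 : FGA.quotPull f F (xO ≫ g) u₂.1 = FGA.quotPull f F yO u₂.1 := h5.unique hF hK.symm
  have h7 := hom_ext_of_isUniversal f h₂ h6
  exact ⟨x₁, congrArg (fun c => c.left) h7⟩

variable (f)

include h₁ h₂ in
/-- The chart map on the locus of quotients of `E` supported over a chart `W`. -/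
theorem exists_chartMap (W : X.Opens) (hW : IsChart E F r W) :
    ∃ G : (locus f hE u₁ W : Scheme.{u}) ⟶ H₂.left, Mono G ∧
      G ≫ H₂.hom = (locus f hE u₁ W).ι ≫ H₁.hom ∧
      (∀ (R : X.Opens) (x : (locus f hE u₁ W : Scheme.{u})),
        (locus f hE u₁ W).ι x ∈ locus f hE u₁ R ↔ G x ∈ locus f hF u₂ R) ∧
      (∀ (Z : Scheme.{u}) (y : Z ⟶ H₂.left), (∀ t, y t ∈ locus f hF u₂ W) →
        ∃ x : Z ⟶ (locus f hE u₁ W : Scheme.{u}), x ≫ G = y) := by
  obtain ⟨⟨φ₀⟩, ⟨φ₀'⟩⟩ := hW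
  let φ : (Scheme.Modules.pullback W.ι).obj E ≅ FlatMod.freeMod (↑W) r :=
    (Scheme.Modules.restrictFunctorIsoPullback W.ι).symm.app E ≪≫ φ₀
  let φ' : (Scheme.Modules.pullback W.ι).obj F ≅ FlatMod.freeMod (↑W) r :=
    (Scheme.Modules.restrictFunctorIsoPullback W.ι).symm.app F ≪≫ φ₀'
  let i : Over.mk ((locus f hE u₁ W).ι ≫ H₁.hom) ⟶ H₁ := Over.homMk (locus f hE u₁ W).ι rfl
  have hiU : ∀ t, i.left t ∈ locus f hE u₁ W := fun t => t.2
  have hiO : IsOpenImmersion i.left := inferInstanceAs (IsOpenImmersion (locus f hE u₁ W).ι)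
  obtain ⟨K', hK'⟩ := exists_corr φ φ' hE hF (pullObj f i u₁)
    (supp_subset_range f hE _ W fun t => (mem_locus_pullObj f hE i u₁ W t).2 (hiU t))
  obtain ⟨g, hg, -⟩ := h₂ _ K'
  have hC : Corr f W.ι φ φ' (FGA.quotPull f E i u₁.1) (FGA.quotPull f F g u₂.1) := by
    rw [hg]
    exact hK'
  refine ⟨g.left, mono_of_corr hE hF h₁ i g hC, Over.w g, ?_, ?_⟩
  · exact fun R x => mem_locus_iff_of_corr hE hF i g hC R x
  · exact exists_lift_of_corr hE hF h₁ h₂ i g hC W (by rw [Scheme.Opens.range_ι])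
      (fun x hx => ⟨⟨x, hx⟩, rfl⟩)

end Map

section Final

variable (hE : FlatMod.IsFinLocFreeOfRank r E) (hF : FlatMod.IsFinLocFreeOfRank r F) {d : ℕ}
  {H₁ : Over Y} {u₁ : QuotD.Obj f E d H₁} (h₁ : QuotD.IsUniversal f E d H₁ u₁)
  {H₂ : Over Y} {u₂ : QuotD.Obj f F d H₂} (h₂ : QuotD.IsUniversal f F d H₂ u₂)

include hE hF h₁ h₂ in
/-- **The class of the Quot scheme of points depends only on the rank.** -/
theorem cl_quot_eq
    (hA : ∀ (y : Y) (T : Set X), T.Finite → (∀ x ∈ T, f x = y) →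
      ∃ U : X.Opens, IsAffineOpen U ∧ ∀ x ∈ T, x ∈ U)
    {S : Scheme.{u}} (p : Y ⟶ S) [NoetherianSpace H₁.left] [NoetherianSpace H₂.left]
    [LocallyOfFiniteType (H₁.hom ≫ p)] [QuasiCompact (H₁.hom ≫ p)]
    [LocallyOfFiniteType (H₂.hom ≫ p)] [QuasiCompact (H₂.hom ≫ p)] :
    K0Var.cl (H₁.hom ≫ p) = K0Var.cl (H₂.hom ≫ p) := by
  classical
  let 𝒞 := {W : X.Opens // IsChart E F r W}
  -- finitely many charts suffice
  have hfin₁ : ∃ s : Finset 𝒞, ∀ x : H₁.left, ∃ c ∈ s, x ∈ locus f hE u₁ c.1 := by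
    obtain ⟨s, hs⟩ := isCompact_univ.elim_finite_subcover
      (fun c : 𝒞 => (locus f hE u₁ c.1 : Set H₁.left)) (fun c => (locus f hE u₁ c.1).isOpen)
      (fun x _ => by
        obtain ⟨W, hW, hx⟩ := exists_mem_locus f hE hF hE hA u₁ x
        exact Set.mem_iUnion.2 ⟨⟨W, hW⟩, hx⟩)
    refine ⟨s, fun x => ?_⟩
    obtain ⟨c, hc, hx⟩ := Set.mem_iUnion₂.1 (hs (Set.mem_univ x))
    exact ⟨c, hc, hx⟩
  have hfin₂ : ∃ s : Finset 𝒞, ∀ x : H₂.left, ∃ c ∈ s, x ∈ locus f hF u₂ c.1 := by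
    obtain ⟨s, hs⟩ := isCompact_univ.elim_finite_subcover
      (fun c : 𝒞 => (locus f hF u₂ c.1 : Set H₂.left)) (fun c => (locus f hF u₂ c.1).isOpen)
      (fun x _ => by
        obtain ⟨W, hW, hx⟩ := exists_mem_locus f hE hF hF hA u₂ x
        exact Set.mem_iUnion.2 ⟨⟨W, hW⟩, hx⟩)
    refine ⟨s, fun x => ?_⟩
    obtain ⟨c, hc, hx⟩ := Set.mem_iUnion₂.1 (hs (Set.mem_univ x))
    exact ⟨c, hc, hx⟩
  obtain ⟨s₁, hs₁⟩ := hfin₁
  obtain ⟨s₂, hs₂⟩ := hfin₂
  let e : Fin (s₁ ∪ s₂).card ≃ (s₁ ∪ s₂ : Finset 𝒞) := (s₁ ∪ s₂).equivFin.symm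
  choose G hG1 hG2 hG3 hG4 using fun i => exists_chartMap f hE hF h₁ h₂ (e i).1.1 (e i).1.2
  refine K0Cmp.cl_eq_of_charts (H₁.hom ≫ p) (H₂.hom ≫ p) (fun i => locus f hE u₁ (e i).1.1)
    (fun i => locus f hF u₂ (e i).1.1) ?_ ?_ G hG1 ?_ ?_ ?_
  · intro x
    obtain ⟨c, hc, hx⟩ := hs₁ x
    refine ⟨e.symm ⟨c, Finset.mem_union_left _ hc⟩, ?_⟩
    rw [Equiv.apply_symm_apply]
    exact hx
  · intro x
    obtain ⟨c, hc, hx⟩ := hs₂ x
    refine ⟨e.symm ⟨c, Finset.mem_union_right _ hc⟩, ?_⟩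
    rw [Equiv.apply_symm_apply]
    exact hx
  · intro i
    rw [← Category.assoc, hG2, Category.assoc]
  · intro i j x
    exact hG3 i _ x
  · intro i K _ y hy
    exact hG4 i _ y hy

end Final

end K703.Main
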