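import Groth.Agent.RelQuot.K703.SqIso
import Groth.Agent.Ega1.SuppTensorMod
import Groth.Agent.FormalA.Support
import Groth.Agent.Dcoh.FTFP
import Groth.Agent.Flat2B.ExtZero
import Groth.Agent.PerfB.FlatPull

/-!
# Supports of the quotients `M / K`, extension of submodules from an open, transport

* `supp K` is the support of `M / K`; `supp_subPull`, `isClosed_supp`;
* `eq_of_subPull`: submodules with support in the range of an open immersion `j` are determined by their
  restriction along `j`;
* `exists_transport`: transport of a submodule `K` of `M` with support in the range of `j` to a submodule of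
  `M'` along `j^* M ≅ N ≅ j^* M'`; the quotients are isomorphic.
-/

set_option autoImplicit false
set_option backward.isDefEq.respectTransparency false
universe u

open CategoryTheory CategoryTheory.Limits AlgebraicGeometry TopologicalSpace Opposite

namespace K703.SuppSub

open Groth.Agent.Fga.SubobjSec Groth.Agent.Fga.SubPull Groth.Agent.Ega1.SubSheaf
open Groth.Agent.FormalA Groth.Agent.FormalA.ExPush
open AlgebraicGeometry.Scheme.Modules

variable {Y Y' W : Scheme.{u}}

/-- A pull-back of a finite locally free module. -/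
theorem isFinLocFree_pullback {r : ℕ} (f : Y' ⟶ Y) {M : Y.Modules} (hM : FlatMod.IsFinLocFreeOfRank r M) :
    FlatMod.IsFinLocFreeOfRank r ((Scheme.Modules.pullback f).obj M) := by
  intro x
  obtain ⟨V, hV, ⟨e⟩⟩ := hM (f x)
  exact ⟨f ⁻¹ᵁ V, hV, ⟨(Groth.Agent.PerfB.FlatPull.pullbackRestrict f V).app M ≪≫
    (Scheme.Modules.pullback (f ∣_ V)).mapIso e ≪≫
      Groth.Agent.PerfB.FlatPull.pullbackFreeMod _ r⟩⟩

/-- The support of the quotient by a submodule. -/
def supp {M : Y.Modules} (K : Subobject M) : Set Y := CohB1.support (cokernel K.arrow)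

section

variable {M : Y.Modules} (hM : FlatMod.IsFinLocFree M) (K : Subobject M)

include hM in
theorem isFT_coker : CohB1.IsFT (cokernel K.arrow) :=
  Groth.Agent.Dcoh.FTFP.isFT_of_epi_finLocFree hM (cokernel.π K.arrow)

include hM in
theorem isClosed_supp : IsClosed (supp K) := Support.isClosed_support _ (isFT_coker hM K)

include hM in
theorem supp_subPull (a : Y' ⟶ Y) {M' : Y'.Modules} (φ : (Scheme.Modules.pullback a).obj M ≅ M') :
    supp (subPull a φ K) = a ⁻¹' supp K := by
  obtain ⟨e, -⟩ := exists_cokernel_subPull a φ K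
  rw [supp, Support.support_eq_of_iso e,
    Groth.Agent.Ega1.SuppTensorMod.isFT_pullback_support a _ (isFT_coker hM K)]
  rfl

variable {K} in
/-- Outside the support all sections of `M` belong to `K`. -/
theorem mem_of_disjoint {U : Y.Opens} (h : ∀ y ∈ U, y ∉ supp K) (s : Γ(M, U)) :
    s ∈ (toSub K).obj U := by
  rw [← kernelSubobject_cokernel K, mem_kernel_iff]
  exact section_eq_zero_of_support _ U _ h

theorem top_of_forall (h : ∀ (U : Y.Opens) (s : Γ(M, U)), s ∈ (toSub K).obj U) : K = ⊤ :=
  ext_sub fun U s => ⟨fun _ => by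
    have h1 : K ≤ ⊤ := le_top
    exact le_iff.1 h1 U (h U s), fun _ => h U s⟩

theorem supp_top : supp (⊤ : Subobject M) = ∅ := by
  have h1 : IsZero (cokernel (⊤ : Subobject M).arrow) := isZero_cokernel_of_epi _
  refine Set.eq_empty_of_forall_notMem fun y hy => hy ?_
  exact Support.subsingleton_stalk_of_isZero h1 y

theorem eq_top_iff_supp : K = ⊤ ↔ supp K = ∅ := by
  constructor
  · rintro rfl
    exact supp_top
  · intro h
    refine top_of_forall K fun U s => mem_of_disjoint (fun y _ hy => ?_) s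
    rw [h] at hy
    exact hy

end

section Ext

variable (j : W ⟶ Y) [IsOpenImmersion j] {M : Y.Modules} {N : W.Modules}
  (β : (Scheme.Modules.pullback j).obj M ≅ N)

/-- The largest submodule of `M` with restriction `x`. -/
noncomputable def extSub (x : Subobject N) : Subobject M :=
  ofSub (glueSub (ι := PUnit.{1}) (fun _ => j) (fun _ => β) (fun _ => x))

omit [IsOpenImmersion j] in
theorem mem_extSub {x : Subobject N} {U : Y.Opens} {s : Γ(M, U)} :
    s ∈ (toSub (extSub j β x)).obj U ↔ psec j β (le_refl (j ⁻¹ᵁ U)) s ∈ (toSub x).obj (j ⁻¹ᵁ U) := by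
  rw [extSub, toSub_ofSub, mem_glueSub]
  exact ⟨fun h => h PUnit.unit, fun h _ => h⟩

theorem subPull_extSub (x : Subobject N) : subPull j β (extSub j β x) = x := by
  refine ext_sub fun V t => ?_
  have e : V ≤ j ⁻¹ᵁ (j ''ᵁ V) := (Scheme.Hom.preimage_image_eq _ _).ge
  have e' : j ⁻¹ᵁ (j ''ᵁ V) ≤ V := (Scheme.Hom.preimage_image_eq _ _).le
  obtain ⟨s, rfl⟩ := (psec_bijective j β e le_rfl).2 t
  rw [psec_mem_iff j β e le_rfl, mem_extSub]
  constructor
  · intro h
    have := (toSub x).map_mem e h
    rw [res_psec j β _ e le_rfl, res_self] at this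
    exact this
  · intro h
    have := (toSub x).map_mem e' h
    rw [res_psec j β e (le_refl _) le_rfl, res_self] at this
    exact this

omit [IsOpenImmersion j] in
theorem supp_extSub (hM : FlatMod.IsFinLocFree M) (x : Subobject N) (U : Y.Opens)
    (hU : ∀ w, j w ∈ U → w ∉ supp x) : ∀ y ∈ U, y ∉ supp (extSub j β x) := by
  have h1 : subPull U.ι (Iso.refl _) (extSub j β x) = ⊤ := by
    refine top_of_forall _ fun V t => ?_
    have e : V ≤ U.ι ⁻¹ᵁ (U.ι ''ᵁ V) := (Scheme.Hom.preimage_image_eq _ _).ge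
    obtain ⟨s, rfl⟩ := (psec_bijective U.ι (Iso.refl _) e le_rfl).2 t
    rw [psec_mem_iff U.ι (Iso.refl _) e le_rfl, mem_extSub]
    refine mem_of_disjoint (fun w hw => hU w ?_) _
    obtain ⟨v, -, hv⟩ : j w ∈ U.ι ''ᵁ V := hw
    rw [← hv]
    exact v.2
  have h2 := supp_subPull hM (extSub j β x) U.ι (Iso.refl _)
  rw [h1, supp_top] at h2
  intro y hy hy'
  have : (⟨y, hy⟩ : U) ∈ U.ι ⁻¹' supp (extSub j β x) := hy'
  rw [← h2] at this
  exact this

theorem mem_iff_of_supp (hM : FlatMod.IsFinLocFree M) {K : Subobject M} (hK : supp K ⊆ Set.range j)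
    {U : Y.Opens} (s : Γ(M, U)) : s ∈ (toSub K).obj U ↔
      psec j β (le_refl (j ⁻¹ᵁ U)) s ∈ (toSub (subPull j β K)).obj (j ⁻¹ᵁ U) := by
  refine ⟨fun h => psec_mem j β _ h, fun h => (toSub K).local_mem s fun y hy => ?_⟩
  by_cases hyK : y ∈ supp K
  · obtain ⟨w, rfl⟩ := hK hyK
    have hle : j ''ᵁ (j ⁻¹ᵁ U) ≤ U := j.image_preimage_le U
    have e : j ⁻¹ᵁ U ≤ j ⁻¹ᵁ (j ''ᵁ (j ⁻¹ᵁ U)) := (Scheme.Hom.preimage_image_eq _ _).ge
    refine ⟨j ''ᵁ (j ⁻¹ᵁ U), hle, ⟨w, hy, rfl⟩, ?_⟩
    rw [← psec_mem_iff j β e le_rfl]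
    have h1 := res_psec j β (le_refl (j ⁻¹ᵁ U)) e hle le_rfl s
    rw [← h1, res_self]
    exact h
  · let V : Y.Opens := U ⊓ ⟨(supp K)ᶜ, (isClosed_supp hM K).isOpen_compl⟩
    have hV : ∀ z ∈ V, z ∉ supp K := fun z hz => hz.2
    exact ⟨V, inf_le_left, ⟨hy, hyK⟩, mem_of_disjoint hV _⟩

/-- Submodules with support in the range of `j` are determined by their restriction along `j`. -/
theorem eq_of_subPull (hM : FlatMod.IsFinLocFree M) {K K' : Subobject M} (hK : supp K ⊆ Set.range j)
    (hK' : supp K' ⊆ Set.range j) (h : subPull j β K = subPull j β K') : K = K' :=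
  ext_sub fun U s => by
    rw [mem_iff_of_supp j β hM hK, mem_iff_of_supp j β hM hK', h]

/-- The quotient with support in the range of `j` is recovered from its restriction. -/
theorem nonempty_iso_push (hM : FlatMod.IsFinLocFree M) {K : Subobject M} (hK : supp K ⊆ Set.range j) :
    Nonempty (cokernel K.arrow ≅
      (Scheme.Modules.pushforward j).obj (cokernel (subPull j β K).arrow)) := by
  have h1 := Groth.Agent.Flat2B.ExtZero.isIso_unit j (cokernel K.arrow) (supp K) (isClosed_supp hM K) hK
    (le_refl _)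
  obtain ⟨e, -⟩ := exists_cokernel_subPull j β K
  exact ⟨asIso ((Scheme.Modules.restrictAdjunction j).unit.app (cokernel K.arrow)) ≪≫
    (Scheme.Modules.pushforward j).mapIso ((restrictFunctorIsoPullback j).app _ ≪≫ e.symm)⟩

variable {M' : Y.Modules} (ψ : (Scheme.Modules.pullback j).obj M' ≅ N)

/-- **Transport** of submodules with support in the range of an open immersion. -/
theorem exists_transport (hM : FlatMod.IsFinLocFree M) (hM' : FlatMod.IsFinLocFree M') (K : Subobject M)
    (hK : supp K ⊆ Set.range j) : ∃ K' : Subobject M', subPull j ψ K' = subPull j β K ∧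
      supp K' = supp K ∧ Nonempty (cokernel K.arrow ≅ cokernel K'.arrow) := by
  let K' := extSub j ψ (subPull j β K)
  have h1 : subPull j ψ K' = subPull j β K := subPull_extSub j ψ _
  have h2 : supp K' = supp K := by
    apply Set.Subset.antisymm
    · intro y hy
      by_contra hc
      refine supp_extSub j ψ hM' (subPull j β K) ⟨(supp K)ᶜ, (isClosed_supp hM K).isOpen_compl⟩
        (fun w hw hw' => ?_) y hc hy
      rw [supp_subPull hM K j β] at hw'
      exact hw hw'
    · intro y hy
      obtain ⟨w, rfl⟩ := hK hy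
      have h3 : w ∈ supp (subPull j β K) := by
        rw [supp_subPull hM K j β]
        exact hy
      rw [← h1, supp_subPull hM' K' j ψ] at h3
      exact h3
  refine ⟨K', h1, h2, ?_⟩
  obtain ⟨e⟩ := nonempty_iso_push j β hM hK
  obtain ⟨e'⟩ := nonempty_iso_push j ψ hM' (K := K') (h2.le.trans hK)
  rw [h1] at e'
  exact ⟨e ≪≫ e'.symm⟩

end Ext

end K703.SuppSub
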