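import Groth.Prelude.Def_QuotD
import Groth.Agent.RelQuot.K703.SuppSub
import Groth.Agent.FunMor.K355.BCMap
import Groth.Agent.FormalA.ClosedImm
import Groth.Agent.FormalA.PullbackQC
import Groth.Agent.CohqA.AffPush

/-!
# The condition `QuotD.IsRelFinLen`: invariance and base change
-/

set_option autoImplicit false
set_option backward.isDefEq.respectTransparency false
universe u

open CategoryTheory CategoryTheory.Limits AlgebraicGeometry TopologicalSpace Opposite

namespace K703.RelLen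

open Groth.Agent.FormalA AlgebraicGeometry.Scheme.Modules

variable {Y Y' B B' : Scheme.{u}}

theorem isFinLocFreeOfRank_of_iso {r : ℕ} {M N : Y.Modules} (e : M ≅ N) (h : FlatMod.IsFinLocFreeOfRank r M) :
    FlatMod.IsFinLocFreeOfRank r N := by
  intro x
  obtain ⟨U, hx, ⟨i⟩⟩ := h x
  exact ⟨U, hx, ⟨(Scheme.Modules.restrictFunctor U.ι).mapIso e.symm ≪≫ i⟩⟩

theorem of_iso {p : Y ⟶ B} {d : ℕ} {Q Q' : Y.Modules} (e : Q ≅ Q') (h : QuotD.IsRelFinLen p d Q) :
    QuotD.IsRelFinLen p d Q' := by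
  obtain ⟨h1, ⟨I, h2, h3⟩, h4⟩ := h
  exact ⟨Groth.Agent.CohqB.LocalQC.isQCoh_of_iso e h1, ⟨I, h2, ClosedImm.killed_of_iso e h3⟩,
    isFinLocFreeOfRank_of_iso ((Scheme.Modules.pushforward p).mapIso e) h4⟩

/-- Constructing `IsRelFinLen` from a module on a closed subscheme. -/
theorem of_closed {p : Y ⟶ B} {d : ℕ} {Z : Scheme.{u}} (i : Z ⟶ Y) [IsClosedImmersion i]
    (hf : IsFinite (i ≫ p)) (Q₀ : Z.Modules) (hQ₀ : Coh.IsQCoh Q₀)
    (hd : FlatMod.IsFinLocFreeOfRank d ((Scheme.Modules.pushforward (i ≫ p)).obj Q₀)) :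
    QuotD.IsRelFinLen p d ((Scheme.Modules.pushforward i).obj Q₀) := by
  refine ⟨Groth.Agent.CohqA.AffPush.isQCoh_push i Q₀ hQ₀, ⟨i.ker, ?_, ClosedImm.killed_pushforward i Q₀⟩, ?_⟩
  · have h1 : i.ker.subschemeι ≫ p = inv i.toImage ≫ (i ≫ p) := by
      rw [IsIso.eq_inv_comp, ← Category.assoc]
      congr 1
      exact i.toImage_imageι
    rw [h1]
    infer_instance
  · exact isFinLocFreeOfRank_of_iso ((pushforwardComp i p).symm.app Q₀) hd

theorem exists_closed {p : Y ⟶ B} {d : ℕ} {Q : Y.Modules} (h : QuotD.IsRelFinLen p d Q) :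
    ∃ (Z : Scheme.{u}) (i : Z ⟶ Y) (_ : IsClosedImmersion i) (Q₀ : Z.Modules), IsFinite (i ≫ p) ∧
      Coh.IsQCoh Q₀ ∧ Nonempty (Q ≅ (Scheme.Modules.pushforward i).obj Q₀) ∧
      FlatMod.IsFinLocFreeOfRank d ((Scheme.Modules.pushforward (i ≫ p)).obj Q₀) := by
  obtain ⟨h1, ⟨I, h2, h3⟩, h4⟩ := h
  have h5 : ClSub.KilledByIdeal I.subschemeι.ker Q := by
    rw [Scheme.IdealSheafData.ker_subschemeι]
    exact h3
  have := ClosedImm.isIso_unit I.subschemeι h5
  let e : Q ≅ (Scheme.Modules.pushforward I.subschemeι).obj ((Scheme.Modules.pullback I.subschemeι).obj Q) :=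
    asIso ((Scheme.Modules.pullbackPushforwardAdjunction I.subschemeι).unit.app Q)
  exact ⟨_, I.subschemeι, inferInstance, (Scheme.Modules.pullback I.subschemeι).obj Q, h2,
    PullbackQC.isQCoh_pullback _ _ h1, ⟨e⟩, isFinLocFreeOfRank_of_iso
      ((Scheme.Modules.pushforward p).mapIso e ≪≫ (pushforwardComp I.subschemeι p).app _) h4⟩

/-- **Base change** of families of length `d` modules. -/
theorem pull {p : Y ⟶ B} {p' : Y' ⟶ B'} {a : Y' ⟶ Y} {g : B' ⟶ B} (sq : IsPullback a p' p g) {d : ℕ}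
    {Q : Y.Modules} (h : QuotD.IsRelFinLen p d Q) :
    QuotD.IsRelFinLen p' d ((Scheme.Modules.pullback a).obj Q) := by
  obtain ⟨Z, i, _, Q₀, hf, hQ₀, ⟨e⟩, hd⟩ := exists_closed h
  have sq1 : IsPullback (pullback.fst i a) (pullback.snd i a) i a := IsPullback.of_hasPullback i a
  have sq2 : IsPullback (pullback.fst i a) (pullback.snd i a ≫ p') (i ≫ p) g := sq1.paste_vert sq
  have := K355.isIso_bcMap_affine i a (pullback.fst i a) (pullback.snd i a) sq1 Q₀ hQ₀
  have e1 := asIso ((K355.bcMap i a (pullback.fst i a) (pullback.snd i a) sq1.w).app Q₀)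
  have := K355.isIso_bcMap_affine (i ≫ p) g (pullback.fst i a) (pullback.snd i a ≫ p') sq2 Q₀ hQ₀
  have e2 := asIso ((K355.bcMap (i ≫ p) g (pullback.fst i a) (pullback.snd i a ≫ p') sq2.w).app Q₀)
  have h1 : IsFinite (pullback.snd i a ≫ p') :=
    MorphismProperty.of_isPullback (P := @IsFinite) sq2 hf
  refine of_iso (((Scheme.Modules.pullback a).mapIso e ≪≫ e1).symm)
    (of_closed (pullback.snd i a) h1 ((Scheme.Modules.pullback (pullback.fst i a)).obj Q₀)
      (PullbackQC.isQCoh_pullback _ _ hQ₀) (isFinLocFreeOfRank_of_iso e2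
        (SuppSub.isFinLocFree_pullback g hd)))

/-- Transport along an isomorphism of schemes over the base. -/
theorem of_isoScheme {p : Y ⟶ B} {p' : Y' ⟶ B} (s : Y' ⟶ Y) [IsIso s] (h : s ≫ p = p') {d : ℕ}
    {Q : Y.Modules} (hQ : QuotD.IsRelFinLen p d Q) :
    QuotD.IsRelFinLen p' d ((Scheme.Modules.pullback s).obj Q) :=
  pull (g := 𝟙 B) (IsPullback.of_horiz_isIso ⟨by rw [h, Category.comp_id]⟩) hQ

end K703.RelLen
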