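import Groth.Agent.Fga.QuotPull

/-!
# Pull-back isomorphisms along commutative squares

For a commutative square `a ≫ p = b ≫ w` and an isomorphism `φ : w^* E ≅ G` the isomorphism
`sqIso : a^* p^* E ≅ b^* G`, with its two compatibilities with composition (`compat_left`, `compat_right`).
-/

set_option autoImplicit false
set_option backward.isDefEq.respectTransparency false
universe u

open CategoryTheory CategoryTheory.Limits AlgebraicGeometry

namespace K703.SqIso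

open Groth.Agent.Fga.SubPull Groth.Agent.Fga.QuotPull AlgebraicGeometry.Scheme.Modules

variable {X₀ X₁ X₂ X₃ W : Scheme.{u}}

lemma tri_naturality (a : X₂ ⟶ X₁) (p : X₁ ⟶ X₀) (p' : X₂ ⟶ X₀) (h : a ≫ p = p') {E F : X₀.Modules}
    (φ : E ⟶ F) :
    (Scheme.Modules.pullback a).map ((Scheme.Modules.pullback p).map φ) ≫ (tri a p p' h F).hom =
      (tri a p p' h E).hom ≫ (Scheme.Modules.pullback p').map φ := by
  subst h
  have e1 : (tri a p (a ≫ p) rfl E).hom = (pullbackComp a p).hom.app E := by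
    simp [tri_def, pullbackCongr]
  have e2 : (tri a p (a ≫ p) rfl F).hom = (pullbackComp a p).hom.app F := by
    simp [tri_def, pullbackCongr]
  rw [e1, e2]
  exact (pullbackComp a p).hom.naturality φ

lemma tri_cong (a : X₂ ⟶ X₁) (p : X₁ ⟶ X₀) (p' : X₂ ⟶ X₀) (h : a ≫ p = p') (E : X₀.Modules) :
    (tri a p p' h E).hom = (pullbackComp a p).hom.app E ≫ (cong h E).hom := by
  subst h
  rw [cong_rfl, Category.comp_id]
  simp [tri_def, pullbackCongr]

/-- `a^* p^* E ≅ b^* G` for a commutative square `a ≫ p = b ≫ w` and `φ : w^* E ≅ G`. -/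
noncomputable irreducible_def sqIso (a : X₂ ⟶ X₁) (p : X₁ ⟶ X₀) (b : X₂ ⟶ W) (w : W ⟶ X₀)
    (h : a ≫ p = b ≫ w) {E : X₀.Modules} {G : W.Modules} (φ : (Scheme.Modules.pullback w).obj E ≅ G) :
    (Scheme.Modules.pullback a).obj ((Scheme.Modules.pullback p).obj E) ≅
      (Scheme.Modules.pullback b).obj G :=
  tri a p (b ≫ w) h E ≪≫ (tri b w (b ≫ w) rfl E).symm ≪≫ (Scheme.Modules.pullback b).mapIso φ

/-- first compatibility. -/
lemma compat_left (b : X₃ ⟶ X₂) (a : X₂ ⟶ X₁) (c : X₃ ⟶ X₁) (p : X₁ ⟶ X₀) (p' : X₂ ⟶ X₀)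
    (q : X₃ ⟶ W) (w : W ⟶ X₀) (hc : b ≫ a = c) (h1 : a ≫ p = p') (h2 : b ≫ p' = q ≫ w)
    (h3 : c ≫ p = q ≫ w) {E : X₀.Modules} {G : W.Modules} (φ : (Scheme.Modules.pullback w).obj E ≅ G) :
    CompatIso hc (tri a p p' h1 E) (sqIso b p' q w h2 φ) (sqIso c p q w h3 φ) := by
  have key := tri_comp b a c p p' (q ≫ w) hc h1 h2 h3 E
  unfold CompatIso at key ⊢
  rw [sqIso_def, sqIso_def]
  simp only [Iso.trans_hom]
  rw [reassoc_of% key]

/-- second compatibility. -/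
lemma compat_right (b : X₃ ⟶ X₂) (a : X₂ ⟶ X₁) (c : X₃ ⟶ X₁) (p : X₁ ⟶ X₀) (q : X₂ ⟶ W)
    (q' : X₃ ⟶ W) (w : W ⟶ X₀) (hc : b ≫ a = c) (h1 : a ≫ p = q ≫ w) (h2 : b ≫ q = q')
    (h3 : c ≫ p = q' ≫ w) {E : X₀.Modules} {G : W.Modules} (φ : (Scheme.Modules.pullback w).obj E ≅ G) :
    CompatIso hc (sqIso a p q w h1 φ) (tri b q q' h2 G) (sqIso c p q' w h3 φ) := by
  have hh : b ≫ (q ≫ w) = q' ≫ w := by rw [← Category.assoc, h2]
  have k1 := tri_comp b a c p (q ≫ w) (q' ≫ w) hc h1 hh h3 E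
  have k2 := tri_comp b q q' w (q ≫ w) (q' ≫ w) h2 rfl hh rfl E
  unfold CompatIso at k1 k2 ⊢
  have k2' : (Scheme.Modules.pullback b).map (tri q w (q ≫ w) rfl E).hom ≫
      (tri b (q ≫ w) (q' ≫ w) hh E).hom =
      (tri b q q' h2 ((Scheme.Modules.pullback w).obj E)).hom ≫ (tri q' w (q' ≫ w) rfl E).hom := by
    rw [k2, tri_cong b q q' h2, Category.assoc]
  rw [sqIso_def, sqIso_def]
  simp only [Iso.trans_hom, Iso.symm_hom, Functor.mapIso_hom, Functor.map_comp, Category.assoc]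
  rw [tri_naturality b q q' h2 φ.hom]
  have k3 : (Scheme.Modules.pullback b).map (tri q w (q ≫ w) rfl E).inv ≫
      (tri b q q' h2 ((Scheme.Modules.pullback w).obj E)).hom =
      (tri b (q ≫ w) (q' ≫ w) hh E).hom ≫ (tri q' w (q' ≫ w) rfl E).inv := by
    rw [← cancel_epi ((Scheme.Modules.pullback b).map (tri q w (q ≫ w) rfl E).hom),
      ← Functor.map_comp_assoc, Iso.hom_inv_id, CategoryTheory.Functor.map_id, Category.id_comp,
      reassoc_of% k2', Iso.hom_inv_id, Category.comp_id]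
  rw [reassoc_of% k3, reassoc_of% k1]

end K703.SqIso
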